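import Cfsg.Agent.Lib.Blocks.Brauer.Integral
import Cfsg.Agent.Lib.Blocks.Brauer.Degrees
import Cfsg.Agent.Lib.Blocks.HeightZeroCongr
import Cfsg.Agent.Lib.CharAction.Rank

/-!
# A criterion for one Brauer character

If all the bilinear sums `∑ ψ y * ψ z` over a block at regular elements are divisible by the order
of the defect group, the block has only one Brauer character.
-/

set_option autoImplicit false

namespace CfsgLib.EqualDegrees

open Cfsg MonoidAlgebra CfsgLib.Blocks CfsgLib.Pairs CfsgLib.Star CfsgLib.IBr CfsgLib.CharAction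
open CfsgLib.Char (regCut)
open scoped Classical ComplexConjugate

variable {G : Type*} [Group G] [Fintype G] {p : ℕ} [Fact p.Prime] {M : Ideal AlgInt} [M.IsPrime]
  (hM : IsPModular p M)
include hM

/-- A matrix separating the Brauer characters, invertible over the local ring. -/
theorem exists_separating (D : Data G M) : ∃ (a : Fin D.n → G → localRing M) (s : G → G),
    (∀ g, ¬ p ∣ orderOf (s g)) ∧
      IsUnit (Matrix.of fun δ δ' => ∑ g, a δ g * D.phiO δ' (s g)).det := by
  have := charP_residueField hM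
  have hdec : ∀ g : G, ∃ s : G, ¬ p ∣ orderOf s ∧
      ∀ δ, D.tau δ (single g 1) = D.tau δ (single s 1) := fun g => by
    obtain ⟨u, s, hu, hs, hcm, rfl⟩ := exists_decomp (p := p) g
    exact ⟨s, hs, fun δ => D.tau_single_mul δ hu hcm⟩
  choose s hs htau using hdec
  choose a ha using fun (δ : Fin D.n) (g : G) =>
    (IsLocalRing.residue_surjective (R := localRing M)) ((D.ε δ).coeff g)
  refine ⟨a, s, hs, ?_⟩
  set T : Matrix (Fin D.n) (Fin D.n) (localRing M) :=
    Matrix.of fun δ δ' => ∑ g, a δ g * D.phiO δ' (s g) with hTdef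
  have hT : T.map (resHom M) = 1 := by
    ext δ δ'
    have h1 : resHom M (T δ δ') = D.tau δ' (D.ε δ) := by
      rw [show T δ δ' = ∑ g, a δ g * D.phiO δ' (s g) from rfl, map_sum]
      conv_rhs => rw [show D.ε δ = ∑ g, single g ((D.ε δ).coeff g) from MonoidAlgebra.ext
        (Finsupp.ext fun x => by simp [MonoidAlgebra.coeff_single, Finsupp.single_apply])]
      rw [map_sum]
      refine Finset.sum_congr rfl fun g _ => ?_
      rw [map_mul, ha, D.phiO_res hM δ' (hs g), ← htau, ← smul_eq_mul, ← map_smul, smul_single',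
        mul_one]
    rw [Matrix.map_apply, h1, Data.tau_apply, D.hεψ]
    by_cases h : δ' = δ
    · subst h
      simp
    · simp [Pi.single_eq_of_ne h, Matrix.one_apply_ne (Ne.symm h)]
  by_contra hu
  have h := RingHom.map_det (resHom M) T
  rw [RingHom.mapMatrix_apply, hT, Matrix.det_one] at h
  exact one_ne_zero (h.symm.trans
    ((IsLocalRing.residue_eq_zero_iff _).2 ((IsLocalRing.mem_maximalIdeal _).2 hu)))

omit [Fintype G] in
/-- Divisibility by a power of `p` of a natural number may be tested in the local ring. -/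
theorem pow_dvd_of_eq_mul {n d : ℕ} {z : localRing M} (h : (n : ℂ) = (p : ℂ) ^ d * z) :
    p ^ d ∣ n := by
  induction d generalizing n z with
  | zero => simp
  | succ d ih =>
    obtain ⟨m, rfl⟩ : p ∣ n := by
      by_contra hn
      refine (((isUnit_natCast_iff hM).2 hn).map (resHom M)).ne_zero ?_
      rw [show (n : localRing M) = (p : localRing M) * ((p : localRing M) ^ d * z) from
        Subtype.ext (by push_cast; rw [h]; ring), map_mul, residue_natCast_self hM, zero_mul]
    have hp0 : (p : ℂ) ≠ 0 := Nat.cast_ne_zero.2 hM.1.ne_zero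
    have h' : (m : ℂ) = (p : ℂ) ^ d * z := mul_left_cancel₀ hp0 (by push_cast at h; rw [h]; ring)
    rw [pow_succ, mul_comm]
    exact Nat.mul_dvd_mul_left p (ih h')

variable {b : Set (IrrCharacter G)} (hb : IsPBlock M b)
include hb

/-- The bilinear criterion. -/
theorem blockRank_eq_one_of_sum_mul
    (hK : ∀ y z : G, ¬ p ∣ orderOf y → ¬ p ∣ orderOf z → ∃ w : localRing M,
      ∑ ψ ∈ (Set.toFinite b).toFinset, (ψ : G → ℂ) y * (ψ : G → ℂ) z =
        (p : ℂ) ^ blockDefect p b * w) : blockRank p b = 1 := by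
  have := Fintype.ofFinite (IrrCharacter G)
  obtain ⟨D⟩ := nonempty_data (G := G) (M := M)
  set A := (Set.toFinite b).toFinset with hA
  have hmem : ∀ {χ}, χ ∈ A ↔ χ ∈ b := fun {χ} => Set.Finite.mem_toFinset _
  set d := blockDefect p b
  have hp0 : (p : ℂ) ≠ 0 := Nat.cast_ne_zero.2 hM.1.ne_zero
  let C : Fin D.n → Fin D.n → ℕ := fun i j => ∑ ψ ∈ A, D.dec ψ i * D.dec ψ j
  have hval : ∀ (ψ : IrrCharacter G) (y : G), ¬ p ∣ orderOf y →
      (ψ : G → ℂ) y = ∑ δ, (D.dec ψ δ : ℂ) * D.phi p δ y := by
    intro ψ y hy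
    have h := congrFun (D.pRegularPart_eq_sum hM ψ) y
    simpa [pRegularPart, IsPRegular, hy, Finset.sum_apply] using h
  -- the Cartan numbers are divisible
  have hC : ∀ i j, p ^ d ∣ C i j := by
    obtain ⟨a, s, hs, hdet⟩ := exists_separating hM D
    set T : Matrix (Fin D.n) (Fin D.n) (localRing M) :=
      Matrix.of fun δ δ' => ∑ g, a δ g * D.phiO δ' (s g) with hT
    choose w hw using fun g h : G => hK (s g) (s h) (hs g) (hs h)
    let X : Matrix (Fin D.n) G (localRing M) := Matrix.of a
    let Φ : Matrix G (Fin D.n) (localRing M) := Matrix.of fun g δ => D.phiO δ (s g)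
    let W : Matrix G G (localRing M) := Matrix.of w
    let Z : Matrix (Fin D.n) (Fin D.n) (localRing M) := X * W * X.transpose
    let C' : Matrix (Fin D.n) (Fin D.n) (localRing M) := Matrix.of fun i j => (C i j : localRing M)
    have hTX : T = X * Φ := by ext i j; simp [T, X, Φ, Matrix.mul_apply]
    have hW : Φ * C' * Φ.transpose = ((p : localRing M) ^ d) • W := by
      ext g h
      simp only [Matrix.mul_apply, Matrix.transpose_apply, Matrix.smul_apply, smul_eq_mul, Φ, W, C',
        C, Matrix.of_apply, Subring.coe_mul, AddSubmonoidClass.coe_finsetSum,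
        SubmonoidClass.coe_pow, SubringClass.coe_natCast, D.phiO_coe (p := p) _ (hs _),
        Nat.cast_sum, Nat.cast_mul]
      rw [← hw g h]
      refine Eq.trans ?_ (Finset.sum_congr rfl (g := fun ψ : IrrCharacter G =>
        (ψ : G → ℂ) (s g) * (ψ : G → ℂ) (s h))
        (f := fun ψ => ∑ i, ∑ j, (D.dec ψ i : ℂ) * D.phi p i (s g) *
          ((D.dec ψ j : ℂ) * D.phi p j (s h))) fun ψ _ => by
        rw [hval ψ _ (hs g), hval ψ _ (hs h), Finset.sum_mul_sum])
      simp only [Finset.mul_sum, Finset.sum_mul]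
      refine ((Finset.sum_congr rfl fun _ _ => Finset.sum_comm).trans Finset.sum_comm).trans ?_
      refine Finset.sum_congr rfl fun ψ _ => Finset.sum_comm.trans ?_
      exact Finset.sum_congr rfl fun _ _ => Finset.sum_congr rfl fun _ _ => by ring
    have hprod : T * C' * T.transpose = ((p : localRing M) ^ d) • Z := by
      rw [hTX, Matrix.transpose_mul, show X * Φ * C' * (Φ.transpose * X.transpose) =
        X * (Φ * C' * Φ.transpose) * X.transpose by simp only [Matrix.mul_assoc], hW,
        Matrix.mul_smul, Matrix.smul_mul]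
    have hT' : IsUnit T.transpose.det := by rwa [Matrix.det_transpose]
    have hC' : C' = ((p : localRing M) ^ d) • (T⁻¹ * Z * T.transpose⁻¹) := by
      rw [← Matrix.smul_mul, ← Matrix.mul_smul, ← hprod, ← mul_assoc, ← mul_assoc,
        Matrix.nonsing_inv_mul _ hdet, one_mul, mul_assoc, Matrix.mul_nonsing_inv _ hT', mul_one]
    intro i j
    refine pow_dvd_of_eq_mul hM (z := (T⁻¹ * Z * T.transpose⁻¹) i j) ?_
    have h := congrArg (fun X : Matrix _ _ (localRing M) => ((X i j : localRing M) : ℂ)) hC'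
    simpa [C', Matrix.smul_apply] using h
  choose U hU using hC
  -- the inverse Cartan numbers
  choose c hc hphi using fun δ => exists_int_combination hM D δ
  have hcb : ∀ δ, D.block hM δ = b → ∀ χ, χ ∉ A → c δ χ = 0 := fun δ hδ χ hχ => by
    by_contra h
    exact hχ (hmem.2 (hδ ▸ hc δ χ h))
  let n : Fin D.n → IrrCharacter G → ℤ := fun i ψ =>
    ∑ χ ∈ A, c i χ * redNum p b (χ : G → ℂ) (ψ : G → ℂ)
  let N : Fin D.n → Fin D.n → ℤ := fun i j => ∑ θ ∈ A, n i θ * c j θ
  have ha : (Nat.card G).factorization p = minDeg p b + d := by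
    obtain ⟨χ, hχ⟩ := IsPBlock.nonempty hb
    rw [show d = blockDefect p b from rfl, blockDefect_eq_sub,
      Nat.add_sub_cancel' (minDeg_le_card ⟨χ, hχ⟩)]
  have hred : ∀ χ : IrrCharacter G, ∀ ψ ∈ A, (redNum p b (χ : G → ℂ) (ψ : G → ℂ) : ℂ) =
      (p : ℂ) ^ d * classInner (pRegularPart p (χ : G → ℂ)) (ψ : G → ℂ) := by
    intro χ ψ hψ
    have h := regNum_eq (p := p) χ ψ
    rw [mul_redNum χ (hmem.1 hψ), ha, pow_add, ← pRegularPart_eq_regCut] at h
    push_cast at h
    refine mul_left_cancel₀ (pow_ne_zero (minDeg p b) hp0) ?_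
    linear_combination -h
  have hphiA : ∀ δ, D.block hM δ = b →
      D.phi p δ = ∑ χ ∈ A, (c δ χ : ℂ) • pRegularPart p (χ : G → ℂ) := by
    intro δ hδ
    rw [hphi δ]
    refine (Finset.sum_subset (Finset.subset_univ A) fun χ _ hχ => ?_).symm
    rw [hcb δ hδ χ hχ, Int.cast_zero, zero_smul]
  have hn : ∀ δ, D.block hM δ = b → ∀ ψ ∈ A,
      (n δ ψ : ℂ) = (p : ℂ) ^ d * classInner (D.phi p δ) (ψ : G → ℂ) := by
    intro δ hδ ψ hψ
    simp only [n, Int.cast_sum, Int.cast_mul]
    rw [hphiA δ hδ, Char.classInner_sum_left, Finset.mul_sum]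
    refine Finset.sum_congr rfl fun χ _ => ?_
    rw [Char.classInner_smul_left, hred χ ψ hψ]
    ring
  -- `∑ n i ψ * dec ψ j = p ^ d`
  have hnd : ∀ i, D.block hM i = b → ∀ j,
      ∑ ψ ∈ A, n i ψ * (D.dec ψ j : ℤ) = if j = i then (p : ℤ) ^ d else 0 := by
    intro i hi j
    have hexp : (p : ℂ) ^ d • D.phi p i =
        ∑ ψ ∈ A, (n i ψ : ℂ) • pRegularPart p (ψ : G → ℂ) := by
      have key : ∀ χ ∈ A, pRegularPart p (χ : G → ℂ) = ∑ ψ ∈ A,
          classInner (pRegularPart p (χ : G → ℂ)) (ψ : G → ℂ) • pRegularPart p (ψ : G → ℂ) :=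
        fun χ hχ => by
          simp only [pRegularPart_eq_regCut]
          exact regCut_eq_sum hM hb (hmem.1 hχ)
      rw [hphiA i hi, Finset.smul_sum, Finset.sum_congr rfl fun χ hχ => by
        rw [key χ hχ, Finset.smul_sum, Finset.smul_sum], Finset.sum_comm]
      refine Finset.sum_congr rfl fun ψ hψ => ?_
      simp only [smul_smul, ← Finset.sum_smul, n, Int.cast_sum, Int.cast_mul]
      congr 1
      exact Finset.sum_congr rfl fun χ _ => by rw [hred χ ψ hψ]; ring
    have hzero : ∑ δ, ((∑ ψ ∈ A, (n i ψ : ℂ) * (D.dec ψ δ : ℂ)) -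
        if δ = i then (p : ℂ) ^ d else 0) • D.phi p δ = 0 := by
      simp only [sub_smul, Finset.sum_sub_distrib, ite_smul, zero_smul, Finset.sum_ite_eq',
        Finset.mem_univ, if_true, Finset.sum_smul, sub_eq_zero]
      rw [hexp, Finset.sum_comm]
      simp only [D.pRegularPart_eq_sum hM, Finset.smul_sum, smul_smul]
    have h := sub_eq_zero.1 (Fintype.linearIndependent_iff.1 (D.linearIndependent_phi hM) _ hzero j)
    apply Int.cast_injective (α := ℂ)
    push_cast
    exact h
  -- `n i` is the combination of the decomposition columns with the inverse Cartan numbers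
  have hnN : ∀ i, D.block hM i = b → ∀ ψ ∈ A,
      n i ψ = ∑ j, (D.dec ψ j : ℤ) * if D.block hM j = b then N i j else 0 := by
    intro i hi ψ hψ
    apply Int.cast_injective (α := ℂ)
    push_cast
    have h1 : classInner (D.phi p i) (ψ : G → ℂ) =
        classInner (D.phi p i) (pRegularPart p (ψ : G → ℂ)) := by
      unfold classInner
      congr 1
      refine Finset.sum_congr rfl fun g _ => ?_
      by_cases hg : p ∣ orderOf g
      · simp [D.phi_singular _ hg]
      · simp [pRegularPart, IsPRegular, hg]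
    rw [hn i hi ψ hψ, h1, D.pRegularPart_eq_sum hM, Char.classInner_sum_right, Finset.mul_sum]
    refine Finset.sum_congr rfl fun j _ => ?_
    rw [Char.classInner_smul_right, Complex.conj_natCast]
    split_ifs with hj
    · simp only [N, Int.cast_sum, Int.cast_mul]
      rw [hphiA j hj, Char.classInner_sum_right, Finset.mul_sum, Finset.mul_sum, Finset.mul_sum]
      refine Finset.sum_congr rfl fun θ hθ => ?_
      rw [Char.classInner_smul_right, map_intCast, hn i hi θ hθ]
      have h2 : classInner (D.phi p i) (pRegularPart p (θ : G → ℂ)) =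
          classInner (D.phi p i) (θ : G → ℂ) := by
        unfold classInner
        congr 1
        refine Finset.sum_congr rfl fun g _ => ?_
        by_cases hg : p ∣ orderOf g
        · simp [D.phi_singular _ hg]
        · simp [pRegularPart, IsPRegular, hg]
      rw [h2]
      ring
    · rw [D.dec_eq_zero_of_ne hM hb (hmem.1 hψ) hj]
      simp
  -- the inverse relation
  have hNU : ∀ i, D.block hM i = b → ∀ k,
      ∑ j, (if D.block hM j = b then N i j else 0) * (U j k : ℤ) = if k = i then 1 else 0 := by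
    intro i hi k
    refine mul_left_cancel₀ (pow_ne_zero d (Int.natCast_ne_zero.2 hM.1.ne_zero)) ?_
    rw [mul_ite, mul_one, mul_zero, ← hnd i hi k, Finset.mul_sum]
    calc ∑ j, (p : ℤ) ^ d * ((if D.block hM j = b then N i j else 0) * (U j k : ℤ))
        = ∑ j, ∑ ψ ∈ A, (D.dec ψ j : ℤ) * (if D.block hM j = b then N i j else 0) *
            (D.dec ψ k : ℤ) := by
          refine Finset.sum_congr rfl fun j _ => ?_
          have h := congrArg (Nat.cast : ℕ → ℤ) (hU j k)
          simp only [C, Nat.cast_sum, Nat.cast_mul, Nat.cast_pow] at h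
          rw [mul_left_comm, ← h, Finset.mul_sum]
          exact Finset.sum_congr rfl fun ψ _ => by ring
      _ = _ := by
          rw [Finset.sum_comm]
          exact Finset.sum_congr rfl fun ψ hψ => by rw [hnN i hi ψ hψ, Finset.sum_mul]
  -- rank one modulo `p`
  obtain ⟨ψ₀, hψ₀, hψ₀h⟩ := exists_height_zero (p := p) (IsPBlock.nonempty hb)
  let u : Fin D.n → ZMod p := fun i => (n i ψ₀ : ZMod p) / (redDeg p b (ψ₀ : G → ℂ) : ZMod p)
  let v : Fin D.n → ZMod p := fun k => ∑ j, (if D.block hM j = b then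
    ∑ θ ∈ A, (redDeg p b (θ : G → ℂ) : ZMod p) * (c j θ : ZMod p) else 0) * (U j k : ZMod p)
  have hnu : ∀ i, ∀ ψ ∈ A, (n i ψ : ZMod p) = u i * (redDeg p b (ψ : G → ℂ) : ZMod p) := by
    intro i ψ hψ
    simp only [u]
    rw [div_mul_eq_mul_div, eq_div_iff (redDeg_ne_zero hψ₀ hψ₀h)]
    simp only [n, Int.cast_sum, Int.cast_mul, Finset.sum_mul]
    exact Finset.sum_congr rfl fun χ _ => by
      linear_combination (c i χ : ZMod p) * redNum_proportional hM hb (χ := χ) (hmem.1 hψ) hψ₀
  have huv : ∀ i, D.block hM i = b → ∀ k, u i * v k = if k = i then 1 else 0 := by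
    intro i hi k
    have h := congrArg (Int.cast : ℤ → ZMod p) (hNU i hi k)
    simp only [N, Int.cast_sum, Int.cast_mul, Int.cast_natCast, apply_ite (Int.cast : ℤ → ZMod p),
      Int.cast_one, Int.cast_zero] at h
    rw [← h, Finset.mul_sum]
    refine Finset.sum_congr rfl fun j _ => ?_
    rw [← mul_assoc]
    congr 1
    split_ifs
    · rw [Finset.mul_sum]
      exact Finset.sum_congr rfl fun θ hθ => by rw [hnu i θ hθ]; ring
    · rw [mul_zero]
  have huniq : ∀ i k, D.block hM i = b → D.block hM k = b → i = k := by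
    intro i k hi hk
    by_contra hne
    have h1 := huv i hi k
    rw [if_neg (Ne.symm hne), mul_eq_zero] at h1
    rcases h1 with h1 | h1
    · have h2 := huv i hi i; rw [if_pos rfl, h1, zero_mul] at h2; exact zero_ne_one h2
    · have h2 := huv k hk k; rw [if_pos rfl, h1, mul_zero] at h2; exact zero_ne_one h2
  obtain ⟨δ, hδ⟩ : ∃ δ, D.block hM δ = b := by
    by_contra! h
    have h1 := hval ψ₀ 1 (by simpa using hM.1.ne_one)
    rw [Finset.sum_eq_zero fun δ _ => by
      rw [D.dec_eq_zero_of_ne hM hb hψ₀ (h δ), Nat.cast_zero, zero_mul]] at h1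
    exact Char.IsIrr.apply_one_ne_zero ψ₀.2 h1
  rw [← D.card_block_eq hM hb, Nat.card_eq_one_iff_unique]
  exact ⟨⟨fun x y => Subtype.ext (huniq _ _ x.2 y.2)⟩, ⟨⟨δ, hδ⟩⟩⟩

end CfsgLib.EqualDegrees
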