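import Cfsg.Agent.Lib.Blocks.EqualDegrees.Products
import Cfsg.Agent.Lib.Blocks.EqualDegrees.Criterion
import Cfsg.Agent.Lib.Blocks.SubsectionNorms

/-!
# Local blocks of a block with equal degrees

Every block of the centralizer of a `p`-element inducing a block with equal degrees and heights
zero has one Brauer character.
-/

set_option autoImplicit false

namespace CfsgLib.EqualDegrees

open Cfsg MonoidAlgebra CfsgLib.Blocks CfsgLib.Pairs CfsgLib.Star CfsgLib.IBr CfsgLib.CharAction
open CfsgLib.Char (regCut)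
open scoped Classical ComplexConjugate

theorem conj_blockCoeff {C : Type*} [Group C] [Fintype C] (b : Set (IrrCharacter C)) (v : C) :
    conj (blockCoeff b v) = blockCoeff b v⁻¹ := by
  rw [blockCoeff, blockCoeff, finsum_mem_eq_finite_toFinset_sum _ (Set.toFinite b),
    finsum_mem_eq_finite_toFinset_sum _ (Set.toFinite b), map_mul, map_inv₀, Complex.conj_natCast,
    map_sum]
  refine congrArg _ (Finset.sum_congr rfl fun χ _ => ?_)
  rw [map_mul, Char.IsIrr.map_inv χ.2 v, apply_one_eq_charDegree, Complex.conj_natCast]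

/-- The block part is the translate by the block idempotent. -/
theorem blockPart_eq_sum_coeff {C : Type*} [Group C] [Fintype C] (b : Set (IrrCharacter C))
    {θ : C → ℂ} (hθ : IsClassFunction C θ) (y : C) :
    blockPart b θ y = ∑ v, blockCoeff b v * θ (v * y) := by
  have := Fintype.ofFinite (IrrCharacter C)
  have hirr : ∀ ψ : IrrCharacter C, ∑ v, blockCoeff b v * (ψ : C → ℂ) (v * y) =
      if ψ ∈ b then (ψ : C → ℂ) y else 0 := by
    intro ψ
    obtain ⟨n, ρ, hirr, hρ⟩ := ψ.2
    have h : ρ.asAlgebraHom (blockIdem b * single y 1) =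
        (if ψ ∈ b then (1 : ℂ) else 0) • ρ y := by
      rw [map_mul, asAlgebraHom_of_central ρ (isCentralElt_blockIdem b), hρ, omega_blockIdem,
        Representation.asAlgebraHom_single_one, ← Module.End.one_eq_id, smul_mul_assoc, one_mul]
    have h2 := congrArg (LinearMap.trace ℂ (Fin n → ℂ)) h
    rw [map_smul, trace_asAlgebraHom, hρ,
      show LinearMap.trace ℂ (Fin n → ℂ) (ρ y) = (ψ : C → ℂ) y from congrFun hρ y, smul_eq_mul,
      ite_mul, one_mul, zero_mul] at h2
    rw [← h2]
    refine Fintype.sum_equiv (Equiv.mulRight y) _ _ fun v => ?_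
    rw [coeff_mul_eq_sum, Finset.sum_eq_single v]
    · simp [MonoidAlgebra.coeff_single, coeff_blockIdem]
    · intro v' _ hne
      simp only [Equiv.coe_mulRight, MonoidAlgebra.coeff_single]
      rw [Finsupp.single_eq_of_ne, mul_zero]
      intro e
      exact hne (inv_mul_eq_one.1 (mul_eq_right.1 ((mul_assoc _ _ _).trans e)))
    · simp
  simp only [Char.classFunction_apply_eq_sum hθ, Finset.mul_sum, blockPart_eq]
  rw [Finset.sum_comm, finsum_mem_eq_finite_toFinset_sum _ (Set.toFinite b)]
  simp only [mul_left_comm (blockCoeff b _), ← Finset.mul_sum, hirr, mul_ite, mul_zero,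
    ← Finset.sum_filter]
  exact Finset.sum_congr (by ext; simp) fun _ _ => rfl

variable {G : Type*} [Group G] [Fintype G] {p : ℕ} [Fact p.Prime] {M : Ideal AlgInt} [M.IsPrime]
  (hM : IsPModular p M) {B : Set (IrrCharacter G)} (hB : IsPBlock M B) {f : ℕ}
  (hf : ∀ χ ∈ B, charDegree (χ : G → ℂ) = f)
  (h0 : ∀ χ ∈ B, blockHeight p B (χ : G → ℂ) = 0)
include hM hB hf h0

/-- The local blocks have one Brauer character. -/
theorem blockRank_local {x : G} (hx : ∃ k : ℕ, orderOf x = p ^ k)
    {b : Set (IrrCharacter (Subgroup.centralizer ({x} : Set G)))}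
    (hind : IsInducedBlock M (Subgroup.centralizer ({x} : Set G)) b B) : blockRank p b = 1 := by
  have := Fintype.ofFinite (IrrCharacter G)
  obtain ⟨hb, -, -⟩ := isInducedBlock_iff.1 hind
  have hle : blockDefect p b ≤ blockDefect p B := by
    obtain ⟨D₀, hD₀⟩ := exists_isDefectGroup (p := p) hb
    obtain ⟨E, hE, hle⟩ := IsInducedBlock.defectGroup_le hM hind hD₀
    refine (Nat.pow_le_pow_iff_right hM.1.one_lt).1 ?_
    rw [← IsDefectGroup.card_eq hM hb hD₀, ← IsDefectGroup.card_eq hM hB hE,
      ← Subgroup.card_map_of_injective (K := D₀) (f := (Subgroup.centralizer ({x} : Set G)).subtype)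
        (Subgroup.subtype_injective _)]
    exact Nat.le_of_dvd Nat.card_pos (Subgroup.card_dvd_of_le hle)
  refine blockRank_eq_one_of_sum_mul hM hb fun y z hy hz => ?_
  choose w hw using exists_sum_mul_eq hM hB hf h0
  set e : Subgroup.centralizer ({x} : Set G) → localRing M :=
    fun v => ⟨_, blockCoeff_mem hb v⟩ with he
  refine ⟨(p : localRing M) ^ (blockDefect p B - blockDefect p b) *
    ∑ v : Subgroup.centralizer ({x} : Set G), ∑ v' : Subgroup.centralizer ({x} : Set G),
      e v * e v'⁻¹ * w (x * ((v * y : Subgroup.centralizer ({x} : Set G)) : G))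
        (x * ((v' * z⁻¹ : Subgroup.centralizer ({x} : Set G)) : G))⁻¹, ?_⟩
  have h := sum_all_blockPart_mul hM hx hb hy (y' := z⁻¹) (by rwa [orderOf_inv])
  simp only [fun ψ : IrrCharacter (Subgroup.centralizer ({x} : Set G)) =>
    show conj ((ψ : Subgroup.centralizer ({x} : Set G) → ℂ) z⁻¹) =
      (ψ : Subgroup.centralizer ({x} : Set G) → ℂ) z by
      rw [← Char.IsIrr.map_inv ψ.2, inv_inv]] at h
  rw [← h, ← Finset.sum_subset (Finset.subset_univ (Set.toFinite B).toFinset) fun χ _ hχ => by
    rw [Set.Finite.mem_toFinset] at hχ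
    rw [blockPart_eq_zero_of_not_induced hM hx (isPBlock_blockOf χ) (mem_blockOf_self χ) hb
      (fun h => hχ (IsInducedBlock.eq hind h ▸ mem_blockOf_self χ)) hy, zero_mul]]
  have hcl : ∀ χ : IrrCharacter G, IsClassFunction (Subgroup.centralizer ({x} : Set G))
      (fun c : Subgroup.centralizer ({x} : Set G) => (χ : G → ℂ) (x * (c : G))) := fun χ =>
    isClassFunction_apply_mul (Char.IsIrr.isClassFunction χ.2)
  simp only [blockPart_eq_sum_coeff b (hcl _), map_sum, map_mul, conj_blockCoeff,
    ← Char.IsIrr.map_inv (Subtype.prop (_ : IrrCharacter G)), Finset.sum_mul_sum]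
  rw [Finset.sum_comm]
  push_cast
  rw [← mul_assoc, ← pow_add, Nat.add_sub_cancel' hle, Finset.mul_sum]
  refine Finset.sum_congr rfl fun v _ => ?_
  rw [Finset.sum_comm, Finset.mul_sum]
  refine Finset.sum_congr rfl fun v' _ => ?_
  rw [mul_left_comm, ← hw, Finset.mul_sum]
  exact Finset.sum_congr rfl fun χ _ => by simp only [he, Subgroup.coe_mul, Subgroup.coe_inv]; ring

end CfsgLib.EqualDegrees
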