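import Cfsg.Agent.Lib.Pairs.Nilpotent
import Cfsg.Agent.Lib.Fusion.NormalCriterion
import Cfsg.Agent.Lib.Fusion.RankTwoRadical

/-!
# Nilpotency of a block with normal defect group

With a normal defect group `P` no proper subgroup is essential, so the block is nilpotent as soon
as the regular elements of the stabilizer of the top pair centralize `P`.
-/

set_option autoImplicit false

namespace CfsgLib.EqualDegrees

open Cfsg CfsgLib.Blocks CfsgLib.Pairs Cfsg.FusionSystem

variable {G : Type*} [Group G] [Fintype G] {M : Ideal AlgInt} [M.IsPrime] {p : ℕ} [Fact p.Prime]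
  {B : Set (IrrCharacter G)} {P : Subgroup G}
  {e : Set (IrrCharacter (Subgroup.centralizer (P : Set G)))}

theorem isNilpotentBlock_of_normal (hM : IsPModular p M) [P.Normal]
    (hmax : IsMaximalBrauerPair p M B P e)
    (h : ∀ x ∈ pairStab P e, ¬ p ∣ orderOf x → x ∈ Subgroup.centralizer (P : Set G)) :
    IsNilpotentBlock p M B := by
  classical
  have hF := isBlockFusionSystemOn_blockFusion hM hmax
  have hPp : IsPGroup p P := hmax.1.1.1
  have hsat := isSaturated_of_isBlockFusionSystemOn hF hM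
  have hrefl : SubpairLE p M P e P e := Relation.ReflTransGen.refl
  refine nilpotent_of_eq_inner hF hM fun Q => ?_
  suffices hinner : blockFusion hM hmax = innerFusionSystem P by rw [hinner]
  refine CfsgLib.Fusion.fusionSystem_antisymm (CfsgLib.Fusion.alperin hPp hsat _ fun R hR => ?_)
    (CfsgLib.Fusion.innerFusionSystem_le _)
  rcases hR with rfl | hR
  · -- the automorphisms of the defect group form a `p`-group
    have hp : IsPGroup p ((blockFusion hM hmax).autGroup R) := by
      rintro ⟨α, hα⟩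
      obtain ⟨g, hg, hgα⟩ := CfsgLib.Fusion.mem_autInducedBy_iff.1
        ((mem_autGroup_iff_pairStab hF hM hrefl).1 hα)
      refine ⟨(orderOf g).factorization p, Subtype.ext ?_⟩
      set r := p ^ (orderOf g).factorization p with hr
      have hreg : ¬ p ∣ orderOf (g ^ r) := by
        rw [orderOf_pow_of_dvd (pow_ne_zero _ (Fact.out : p.Prime).pos.ne') (Nat.ordProj_dvd _ _)]
        exact Nat.not_dvd_ordCompl (Fact.out : p.Prime) (orderOf_pos g).ne'
      have hcen := h (g ^ r) (pow_mem hg r) hreg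
      rw [SubgroupClass.coe_pow]
      refine MulEquiv.ext fun x => Subtype.ext ?_
      have hpow : ∀ n : ℕ, (((α ^ n) x : R) : G) = g ^ n * x * (g ^ n)⁻¹ := fun n => by
        induction n with
        | zero => simp
        | succ n ih => rw [pow_succ', MulAut.mul_apply, hgα, ih, pow_succ' g n]; group
      rw [hpow, ← Subgroup.mem_centralizer_iff.1 hcen x x.2, mul_inv_cancel_right]
      rfl
    have := CfsgLib.Fusion.finite_mulAut_of_le (S := R) (P := R) le_rfl
    obtain ⟨T, hT⟩ := CfsgLib.Fusion.IsSaturated.top_autGroup_sylow hPp hsat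
    have htop := T.is_maximal' (hp.to_subgroup ⊤) le_top
    rw [CfsgLib.Fusion.inner_autGroup le_rfl, CfsgLib.Fusion.autInducedBy_self_eq]
    intro α hα
    exact (hT.le (htop.le (Subgroup.mem_top (⟨α, hα⟩ : (blockFusion hM hmax).autGroup R))) : _)
  · -- no proper subgroup is essential
    exfalso
    have hRP : R ≤ P := hR.1.1
    by_cases hlt : R = P
    · subst hlt
      obtain ⟨-, -, hN, E, hE⟩ := hR
      obtain ⟨hne, hd, hcn⟩ := CfsgLib.LocalEven.stronglyPEmbedded_iff.1 hE
      have := CfsgLib.Fusion.finite_mulAut_of_le (S := R) (P := R) le_rfl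
      obtain ⟨T, hT⟩ := CfsgLib.Fusion.IsSaturated.top_autGroup_sylow hPp hsat
      have hdvd : p ∣ ((Inn R).subgroupOf ((blockFusion hM hmax).autGroup R)).index :=
        hE.1
      rw [← hT] at hdvd
      exact T.not_dvd_index hdvd
    obtain ⟨f, -, hle⟩ := exists_below hM (Nat.card P) (Nat.sub_le _ _) hmax.1.1 hRP
    have hgt := CfsgLib.Fusion.lt_normalizerIn hPp (lt_of_le_of_ne hRP hlt)
    obtain ⟨g, hg, hgR⟩ := SetLike.exists_of_lt hgt
    obtain ⟨hgP, hgN⟩ := Subgroup.mem_inf.1 hg
    have hKp : IsPGroup p (autInducedBy P R) := by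
      rintro ⟨α, hα⟩
      obtain ⟨u, hu, huα⟩ := CfsgLib.Fusion.mem_autInducedBy_iff.1 hα
      obtain ⟨k, hk⟩ := hPp ⟨u, hu⟩
      refine ⟨k, Subtype.ext ?_⟩
      have hk' : u ^ p ^ k = 1 := congrArg Subtype.val hk
      rw [SubgroupClass.coe_pow]
      refine MulEquiv.ext fun x => Subtype.ext ?_
      have hpow : ∀ n : ℕ, (((α ^ n) x : R) : G) = u ^ n * x * (u ^ n)⁻¹ := fun n => by
        induction n with
        | zero => simp
        | succ n ih => rw [pow_succ', MulAut.mul_apply, huα, ih, pow_succ' u n]; group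
      rw [hpow, hk']
      simp
    have hK : autInducedBy P R ≤ Inn R := by
      refine CfsgLib.Fusion.mem_inn_of_normal hPp hRP
        (CfsgLib.Fusion.IsEssential.isRadical hPp hR)
        (CfsgLib.Fusion.autInducedBy_le_autGroup hRP) (fun α hα κ hκ => ?_) hKp
      obtain ⟨x, hx, hxα⟩ := CfsgLib.Fusion.mem_autInducedBy_iff.1
        ((mem_autGroup_iff_pairStab hF hM hle).1 hα)
      obtain ⟨u, hu, huκ⟩ := CfsgLib.Fusion.mem_autInducedBy_iff.1 hκ
      refine CfsgLib.Fusion.mem_autInducedBy_iff.2 ⟨x * u * x⁻¹, ‹P.Normal›.conj_mem u hu x, fun v => ?_⟩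
      have hinv : ((α⁻¹ v : R) : G) = x⁻¹ * v * x := by
        have h2 := hxα (α⁻¹ v)
        rw [MulAut.apply_inv_self] at h2
        rw [h2]
        group
      simp only [MulAut.mul_apply]
      rw [hxα, huκ, hinv]
      group
    let α : MulAut R := R.normalizerMonoidHom ⟨g, hgN⟩
    have hα : α ∈ autInducedBy P R := CfsgLib.Fusion.mem_autInducedBy_iff.2 ⟨g, hgP, fun _ => rfl⟩
    obtain ⟨r, hr⟩ := hK hα
    refine hgR ?_
    have hc : (r : G)⁻¹ * g ∈ centralizerIn P R := by
      refine ⟨mul_mem (P.inv_mem (hRP r.2)) hgP, Subgroup.mem_centralizer_iff.2 fun v hv => ?_⟩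
      have h2 := congrArg (fun β : MulAut R => ((β ⟨v, hv⟩ : R) : G)) hr
      simp only [MulAut.conj_apply, Subgroup.coe_mul, Subgroup.coe_inv] at h2
      calc v * ((r : G)⁻¹ * g) = (r : G)⁻¹ * ((r : G) * v * (r : G)⁻¹) * g := by group
        _ = (r : G)⁻¹ * (g * v * g⁻¹) * g := by rw [h2]; rfl
        _ = (r : G)⁻¹ * g * v := by group
    have hcR := hR.1.2 R ⟨R.subtype, by
      have h1 := (blockFusion hM hmax).conj_mem hRP (one_mem P)
      rwa [show conjHom R (1 : G) = R.subtype by ext; simp [conjHom]] at h1, R.range_subtype⟩ hc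
    simpa using mul_mem r.2 hcR

end CfsgLib.EqualDegrees
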