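import Cfsg.Agent.Lib.Blocks.EqualDegrees.Rank
import Mathlib.RingTheory.Nakayama

/-!
# Products of columns of a block with equal degrees

A lift of a primitive idempotent acts with rank one in every character of such a block, so the
columns `(χ g)` are closed under products over the local ring; hence `∑ χ g * χ h` is divisible
by the order of the defect group.
-/

set_option autoImplicit false

namespace CfsgLib.EqualDegrees

open Cfsg MonoidAlgebra CfsgLib.Blocks CfsgLib.Pairs CfsgLib.Star CfsgLib.IBr CfsgLib.CharAction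
open CfsgLib.Char (regCut)
open scoped Classical

/-- Compressions by an idempotent of trace one have multiplicative trace. -/
theorem trace_compr_mul {V : Type*} [AddCommGroup V] [Module ℂ V] [FiniteDimensional ℂ V]
    (P X Y : Module.End ℂ V) (hP : P * P = P) (htr : LinearMap.trace ℂ V P = 1) :
    LinearMap.trace ℂ V ((P * X * P) * (P * Y * P)) =
      LinearMap.trace ℂ V (P * X * P) * LinearMap.trace ℂ V (P * Y * P) := by
  have hproj : LinearMap.IsProj (LinearMap.range P) P := by
    refine ⟨fun v => ⟨v, rfl⟩, ?_⟩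
    rintro _ ⟨v, rfl⟩
    rw [← Module.End.mul_apply, hP]
  have h1 : Module.finrank ℂ (LinearMap.range P) = 1 := by
    have h := hproj.trace
    rw [htr] at h
    exact_mod_cast h.symm
  obtain ⟨⟨v, hv⟩, -, hspan⟩ := finrank_eq_one_iff'.1 h1
  have hline : ∀ w, ∃ c : ℂ, c • v = P w := fun w => by
    obtain ⟨c, hc⟩ := hspan ⟨P w, ⟨w, rfl⟩⟩
    exact ⟨c, congrArg Subtype.val hc⟩
  have hscal : ∀ Z : Module.End ℂ V, ∃ μ : ℂ, P * Z * P = μ • P := fun Z => by
    obtain ⟨μ, hμ⟩ := hline (Z v)
    refine ⟨μ, LinearMap.ext fun w => ?_⟩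
    obtain ⟨c, hc⟩ := hline w
    show P (Z (P w)) = μ • P w
    rw [← hc, map_smul, map_smul, ← hμ, smul_comm]
  obtain ⟨μ, hμ⟩ := hscal X
  obtain ⟨ν, hν⟩ := hscal Y
  rw [hμ, hν, smul_mul_smul_comm, hP, map_smul, map_smul, map_smul, htr, smul_eq_mul, smul_eq_mul,
    smul_eq_mul, mul_one, mul_one, mul_one]

variable {G : Type*} [Group G] [Fintype G] {p : ℕ} [Fact p.Prime] {M : Ideal AlgInt} [M.IsPrime]

/-- Twisted traces at the identity are traces. -/
theorem tr_one_eq_trace {n : ℕ} {χ : G → ℂ} (ρ : Representation ℂ G (Fin n → ℂ))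
    (hρ : ρ.character = χ) (a : MonoidAlgebra (localRing M) G) :
    tr χ 1 a = LinearMap.trace ℂ _ (ρ.asAlgebraHom (inc M a)) := by
  rw [trace_asAlgebraHom, tr, hρ]
  simp only [mul_one, coeff_inc]

variable (hM : IsPModular p M) {B : Set (IrrCharacter G)} (hB : IsPBlock M B)
include hM hB

omit [Fact p.Prime] hM in
/-- A character of the block does not see the complement of the block idempotent. -/
theorem tr_mul_blockIdemO {χ : IrrCharacter G} (hχ : χ ∈ B) (a : MonoidAlgebra (localRing M) G) :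
    tr (χ : G → ℂ) 1 (a * blockIdemO M B) = tr (χ : G → ℂ) 1 a := by
  obtain ⟨n, ρ, hirr, hρ⟩ := χ.2
  rw [tr_one_eq_trace ρ hρ, tr_one_eq_trace ρ hρ, map_mul (inc M), map_mul, inc_blockIdemO hB,
    asAlgebraHom_of_central ρ (isCentralElt_blockIdem B), hρ, omega_blockIdem, if_pos hχ, one_smul,
    ← Module.End.one_eq_id, mul_one]

/-- The block idempotent lies in the ideal of the idempotent of its only Brauer character. -/
theorem exists_blockIdemBar_eq_sum (D : Data G M) {δ₀ : Fin D.n} (hδ : D.block hM δ₀ = B)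
    (huniq : ∀ δ, D.block hM δ = B → δ = δ₀) :
    ∃ a b : Fin (D.d δ₀) → MonoidAlgebra (Res M) G,
      blockIdemBar M B = ∑ i, a i * D.ε δ₀ * b i := by
  set e := blockIdemBar M B
  choose u hu using fun i : Fin (D.d δ₀) => D.surj (Pi.single δ₀ (Matrix.single i 0 (1 : Res M)))
  choose w hw using fun i : Fin (D.d δ₀) => D.surj (Pi.single δ₀ (Matrix.single 0 i (1 : Res M)))
  set x := ∑ i, u i * D.ε δ₀ * w i with hx
  have hψ : D.ψ (e - x) = 0 := by
    funext δ
    rw [map_sub, Pi.sub_apply, hx, map_sum, Finset.sum_apply, Pi.zero_apply, sub_eq_zero]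
    by_cases hd : δ = δ₀
    · subst hd
      rw [D.psi_blockIdemBar hM hB hδ]
      simp only [map_mul, Pi.mul_apply, hu, hw, D.hεψ, Pi.single_eq_same]
      rw [Finset.sum_congr rfl (g := fun i => Matrix.single i i (1 : Res M)) fun i _ => by
        rw [Matrix.single_mul_single_same, Matrix.single_mul_single_same, one_mul, one_mul]]
      exact Matrix.sum_single_one.symm
    · rw [D.psi_blockIdemBar_of_ne hM hB fun h => hd (huniq δ h), eq_comm]
      refine Finset.sum_eq_zero fun i _ => ?_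
      simp [map_mul, hu, Pi.single_eq_of_ne hd]
  have hunit : IsUnit (1 - (e - x)) := (D.nil _ hψ).isUnit_one_sub
  obtain ⟨v, hv⟩ := hunit
  refine ⟨fun i => e * u i, fun i => w i * (↑v⁻¹ : MonoidAlgebra (Res M) G), ?_⟩
  have hee : e * e = e := blockIdemBar_mul_self hB
  have h : e = e * x * (↑v⁻¹ : MonoidAlgebra (Res M) G) := by
    rw [Units.eq_mul_inv_iff_mul_eq, hv, mul_sub, mul_one, mul_sub, hee]
    abel
  conv_lhs => rw [h]
  rw [hx, Finset.mul_sum, Finset.sum_mul]
  simp only [mul_assoc]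

variable {f : ℕ} (hf : ∀ χ ∈ B, charDegree (χ : G → ℂ) = f)
  (h0 : ∀ χ ∈ B, blockHeight p B (χ : G → ℂ) = 0)
include hf h0

/-- The sum of the characters of the block is divisible by the order of the defect group. -/
theorem exists_sum_apply_eq (g : G) : ∃ z : localRing M,
    ∑ χ ∈ (Set.toFinite B).toFinset, (χ : G → ℂ) g = (p : ℂ) ^ blockDefect p B * z := by
  obtain ⟨D⟩ := nonempty_data (G := G) (M := M)
  obtain ⟨δ₀, -, -, hrow, hk⟩ := exists_unique_brauer hM hB hf h0 D
  by_cases hg : p ∣ orderOf g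
  · refine ⟨0, ?_⟩
    have h := sum_block_regular_singular hM hB (x := 1) (by simpa using hM.1.ne_one) hg
    rw [finsum_mem_eq_finite_toFinset_sum _ (Set.toFinite B), Finset.sum_congr rfl
      (g := fun χ : IrrCharacter G => (f : ℂ) * (χ : G → ℂ) g) fun χ hχ => by
        rw [apply_one_eq_charDegree, hf χ ((Set.Finite.mem_toFinset _).1 hχ)],
      ← Finset.mul_sum, mul_eq_zero] at h
    obtain ⟨ξ, hξ⟩ := IsPBlock.nonempty hB
    rw [ZeroMemClass.coe_zero, mul_zero]
    exact h.resolve_left (Nat.cast_ne_zero.2 (hf ξ hξ ▸ (charDegree_pos ξ).ne'))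
  · refine ⟨D.phiO δ₀ g, ?_⟩
    rw [D.phiO_coe (p := p) δ₀ hg, Finset.sum_congr rfl (g := fun _ => D.phi p δ₀ g) fun χ hχ => ?_,
      Finset.sum_const, nsmul_eq_mul, ← Nat.card_eq_card_finite_toFinset, ← Nat.cast_pow, ← hk]
    rw [← (hrow χ ((Set.Finite.mem_toFinset _).1 hχ)).2, regCut, if_neg hg]

/-- **Products of columns.** -/
theorem exists_sum_mul_eq (g h : G) : ∃ z : localRing M,
    ∑ χ ∈ (Set.toFinite B).toFinset, (χ : G → ℂ) g * (χ : G → ℂ) h =
      (p : ℂ) ^ blockDefect p B * z := by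
  have := Fintype.ofFinite (IrrCharacter G)
  obtain ⟨D⟩ := nonempty_data (G := G) (M := M)
  obtain ⟨δ₀, hδ, huniq, hrow, -⟩ := exists_unique_brauer hM hB hf h0 D
  obtain ⟨q, hq, -, hqr⟩ := exists_lift_idem (D.hε δ₀) (invUnder_one (D.ε δ₀))
  have hq1 : ∀ χ ∈ B, tr (χ : G → ℂ) 1 q = 1 := fun χ hχ => by
    have h1 : (D.dec χ δ₀ : ℂ) = tr (χ : G → ℂ) 1 q := by
      rw [← Int.cast_natCast, D.dec_cast, mult_cast hM χ (D.hε δ₀),
        sv_eq hM χ (isPPart_one hM) (D.hε δ₀) (invUnder_one _) hq (invUnder_one _) (by rw [hqr])]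
    rw [← h1, (hrow χ hχ).1, Nat.cast_one]
  set A := (Set.toFinite B).toFinset
  let T : MonoidAlgebra (localRing M) G →ₗ[(localRing M)] (B → ℂ) :=
    { toFun := fun a χ => tr ((χ : IrrCharacter G) : G → ℂ) 1 a
      map_add' := fun a b => funext fun χ => tr_add _ _ a b
      map_smul' := fun c a => funext fun χ => by
        simp only [tr, Pi.smul_apply, RingHom.id_apply, Subring.smul_def, smul_eq_mul, Finset.mul_sum]
        refine Finset.sum_congr rfl fun w _ => ?_
        rw [coeff_smul, Finsupp.smul_apply, smul_eq_mul, Subring.coe_mul]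
        ring }
  let K : MonoidAlgebra (localRing M) G →ₗ[(localRing M)] MonoidAlgebra (localRing M) G :=
    LinearMap.mulLeft (localRing M) q ∘ₗ LinearMap.mulRight (localRing M) q
  have hKapp : ∀ a, K a = q * a * q := fun a => by simp [K, mul_assoc]
  set L := LinearMap.range T
  set L' := LinearMap.range (T ∘ₗ K)
  -- lifts of the two sided expression of the idempotent
  obtain ⟨a, b, hab⟩ := exists_blockIdemBar_eq_sum hM hB D hδ huniq
  have hlift : ∀ y : MonoidAlgebra (Res M) G, ∃ z : MonoidAlgebra (localRing M) G, red M z = y := fun y =>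
    ⟨ofFun fun w => Function.surjInv IsLocalRing.residue_surjective (y.coeff w),
      MonoidAlgebra.ext (Finsupp.ext fun w => by simp [Function.surjInv_eq])⟩
  choose a' ha using fun i => hlift (a i)
  choose b' hb using fun i => hlift (b i)
  set r := blockIdemO M B - ∑ i, a' i * q * b' i with hr
  have hr0 : ∀ w, r.coeff w ∈ IsLocalRing.maximalIdeal (localRing M) := fun w => by
    have h' : red M r = 0 := by
      rw [hr, map_sub, map_sum]
      simp only [map_mul, ha, hb, hqr]
      exact sub_eq_zero.2 (by rw [← hab]; rfl)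
    rw [← IsLocalRing.residue_eq_zero_iff, ← coeff_red, h']
    rfl
  have hle : L ≤ L' ⊔ IsLocalRing.maximalIdeal (localRing M) • L := by
    rintro _ ⟨c, rfl⟩
    have hsplit : T c = (∑ i, T (c * (a' i * q * b' i))) + T (c * r) := by
      rw [← map_sum, ← map_add, ← Finset.mul_sum, ← mul_add, hr, add_sub_cancel]
      exact funext fun χ => (tr_mul_blockIdemO hB χ.2 c).symm
    rw [hsplit]
    refine Submodule.add_mem_sup (Submodule.sum_mem _ fun i _ => ⟨b' i * c * a' i, ?_⟩) ?_
    · refine funext fun χ => ?_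
      show tr _ 1 (K _) = tr _ 1 _
      rw [hKapp]
      have hcl := Char.IsIrr.isClassFunction (χ : IrrCharacter G).2
      have e1 : c * (a' i * q * b' i) = (c * a' i * q) * (q * b' i) := by
        simp only [mul_assoc]
        rw [← mul_assoc q q, hq]
      rw [e1, tr_mul_comm hcl (invUnder_one _) (q * b' i)]
      simp only [mul_assoc]
    · rw [show c * r = ∑ w, r.coeff w • (c * single w (1 : (localRing M))) by
        conv_lhs => rw [show r = ∑ w, r.coeff w • single w (1 : (localRing M)) from MonoidAlgebra.ext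
          (Finsupp.ext fun x => by simp [MonoidAlgebra.coeff_single, Finsupp.single_apply])]
        rw [Finset.mul_sum]
        exact Finset.sum_congr rfl fun w _ => mul_smul_comm _ _ _, map_sum]
      refine Submodule.sum_mem _ fun w _ => ?_
      rw [map_smul]
      exact Submodule.smul_mem_smul (hr0 w) ⟨_, rfl⟩
  have hLL : L ≤ L' := Submodule.le_of_le_smul_of_le_jacobson_bot
    (by rw [show L = Submodule.map T ⊤ from LinearMap.range_eq_map T]
        exact (Module.Finite.fg_top).map T)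
    (le_of_eq (IsLocalRing.jacobson_eq_maximalIdeal ⊥ bot_ne_top).symm) hle
  obtain ⟨u, hu⟩ := hLL ⟨single g 1, rfl⟩
  obtain ⟨v, hv⟩ := hLL ⟨single h 1, rfl⟩
  have hgval : ∀ (k : G) (χ : IrrCharacter G) (hχ : χ ∈ B),
      T (single k 1) ⟨χ, hχ⟩ = (χ : G → ℂ) k := fun k χ hχ => by
    show tr _ 1 (single k 1) = _
    rw [tr_single, mul_one, OneMemClass.coe_one, one_mul]
  set c := K u * K v with hc
  have hprod : ∀ χ ∈ A, (χ : G → ℂ) g * (χ : G → ℂ) h = ∑ w, (c.coeff w : ℂ) * (χ : G → ℂ) w := by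
    intro χ hχA
    have hχ : χ ∈ B := (Set.Finite.mem_toFinset _).1 hχA
    obtain ⟨n, ρ, -, hρ⟩ := χ.2
    have h1 : tr (χ : G → ℂ) 1 c = tr (χ : G → ℂ) 1 (K u) * tr (χ : G → ℂ) 1 (K v) := by
      have htr : LinearMap.trace ℂ _ (ρ.asAlgebraHom (inc M q)) = 1 := by
        rw [← tr_one_eq_trace ρ hρ, hq1 χ hχ]
      simp only [hc, tr_one_eq_trace ρ hρ, hKapp, map_mul]
      exact trace_compr_mul _ _ _ (by rw [← map_mul, ← map_mul, hq]) htr
    rw [← hgval g χ hχ, ← hgval h χ hχ, ← hu, ← hv]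
    refine Eq.trans h1.symm ?_
    simp only [tr, mul_one]
  choose z hz using exists_sum_apply_eq hM hB hf h0
  refine ⟨∑ w, c.coeff w * z w, ?_⟩
  rw [Finset.sum_congr rfl hprod, Finset.sum_comm, AddSubmonoidClass.coe_finsetSum, Finset.mul_sum]
  refine Finset.sum_congr rfl fun w _ => ?_
  rw [← Finset.mul_sum, hz, Subring.coe_mul]
  ring

end CfsgLib.EqualDegrees
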