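import Cfsg.Agent.Lib.Blocks.DerivedQuotient
import Cfsg.Agent.Lib.Blocks.QuotientDefect
import Cfsg.Agent.Lib.Pairs.AbelianLocal
import Cfsg.Agent.Lib.Pairs.Chain
import Cfsg.Agent.Lib.Pairs.Sylow
import Cfsg.Agent.Lib.Blocks.Covering

/-!
# The image of a pair in a quotient

Let `N ≤ D` be normal `p`-subgroups of `G` such that regular elements centralizing `D` modulo `N`
centralize `D`.  A block `c` of `C(D)` determines a block of `C(D / N)`, fixed by the stabilizer of
`c`; it gives a pair of a block of `G / N` inside the block of `c`.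
-/

set_option autoImplicit false

namespace CfsgLib.EqualDegrees

open Cfsg MonoidAlgebra CfsgLib.Blocks CfsgLib.Pairs
open scoped Classical

section Hom

variable {H H' : Type*} [Group H] [Group H'] [Fintype H] [Fintype H'] (π : H →* H')
  {M : Ideal AlgInt} [M.IsPrime]

omit [Fintype H] in
theorem isCentralElt_of_commute {R : Type*} [CommSemiring R] {a : MonoidAlgebra R H'}
    (h : ∀ g : H', Commute (single g 1) a) : IsCentralElt a := fun x g => by
  have h' := congrArg (fun z : MonoidAlgebra R H' => z.coeff (g * x)) (h g).eq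
  simp only [coeff_mul_eq_sum] at h'
  rw [Finset.sum_eq_single g, Finset.sum_eq_single (g * x * g⁻¹)] at h'
  · simpa [MonoidAlgebra.coeff_single, mul_assoc] using h'.symm
  · intro b _ hb
    rw [MonoidAlgebra.coeff_single, Finsupp.single_eq_of_ne, mul_zero]
    intro e
    exact hb (mul_inv_eq_iff_eq_mul.2 (inv_mul_eq_iff_eq_mul.1 e)).symm
  · simp
  · intro b _ hb
    simp [MonoidAlgebra.coeff_single, hb]
  · simp

theorem isCentralElt_mapDomain (hπ : Function.Surjective π) {R : Type*} [CommSemiring R]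
    {a : MonoidAlgebra R H} (ha : IsCentralElt a) : IsCentralElt (mapDomainRingHom R π a) := by
  refine isCentralElt_of_commute fun g => ?_
  obtain ⟨x, rfl⟩ := hπ g
  rw [show single (π x) (1 : R) = mapDomainRingHom R π (single x 1) by simp]
  exact ((ha.commute _).symm.map (mapDomainRingHom R π))

/-- Central characters factor through surjections. -/
theorem omegaBar_mapDomain (hπ : Function.Surjective π) (χ : IrrCharacter H')
    {a : MonoidAlgebra (Res M) H} (ha : IsCentralElt a) :
    omegaBar χ (mapDomainRingHom (Res M) π a) =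
      omegaBar (⟨(χ : H' → ℂ) ∘ π, Char.IsIrr.comp_surjective π hπ χ.2⟩ : IrrCharacter H) a := by
  obtain ⟨b, hb, rfl⟩ := exists_central_lift ha
  have hred : mapDomainRingHom (Res M) π (red M b) =
      red M (mapDomainRingHom (localRing M) π b) := by
    have h : (mapDomainRingHom (Res M) π).comp (red M) =
        (red M).comp (mapDomainRingHom (localRing M) π) := by
      ext <;> simp [red]
    exact RingHom.congr_fun h b
  rw [hred, omegaBar_red _ (isCentralElt_mapDomain π hπ hb), omegaBar_red _ hb]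
  congr 1
  refine Subtype.ext ?_
  show omega (χ : H' → ℂ) (inc M (mapDomainRingHom (localRing M) π b)) =
    omega ((χ : H' → ℂ) ∘ π) (inc M b)
  rw [omega_apply, omega_apply, Function.comp_apply, map_one]
  congr 1
  simp only [coeff_inc, Function.comp_apply]
  have hco : ∀ q, (mapDomainRingHom (localRing M) π b).coeff q =
      ∑ x ∈ Finset.univ.filter (fun x : H => π x = q), b.coeff x := fun q => by
    rw [Finset.sum_filter, mapDomainRingHom_apply]
    show Finsupp.mapDomain _ b.coeff q = _
    rw [Finsupp.mapDomain, Finsupp.sum_fintype _ _ (fun _ => Finsupp.single_zero _),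
      Finsupp.finsetSum_apply]
    exact Finset.sum_congr rfl fun x _ => Finsupp.single_apply
  simp only [hco, AddSubmonoidClass.coe_finsetSum, Finset.sum_mul]
  rw [← Finset.sum_fiberwise Finset.univ π fun x => (b.coeff x : ℂ) * (χ : H' → ℂ) (π x)]
  exact Finset.sum_congr rfl fun q _ => Finset.sum_congr rfl fun x hx => by
    rw [(Finset.mem_filter.1 hx).2]

end Hom

variable {G : Type*} [Group G] [Fintype G] {p : ℕ} [Fact p.Prime] {M : Ideal AlgInt} [M.IsPrime]
  (hM : IsPModular p M) (D N : Subgroup G) [D.Normal] [N.Normal] [Fintype (G ⧸ N)]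

/-- The image of `D`. -/
abbrev bar : Subgroup (G ⧸ N) := D.map (QuotientGroup.mk' N)

/-- The preimage of the centralizer of the image of `D`. -/
abbrev upCent : Subgroup G :=
  (Subgroup.centralizer (bar D N : Set (G ⧸ N))).comap (QuotientGroup.mk' N)

/-- A character of `C(D / N)` lies over the block of `ξ`. -/
def IsImage (M : Ideal AlgInt) [M.IsPrime]
    (ξ : IrrCharacter (Subgroup.centralizer (D : Set G)))
    (η : IrrCharacter (Subgroup.centralizer (bar D N : Set (G ⧸ N)))) : Prop :=
  ∀ a : MonoidAlgebra (Res M) G, InvUnder (upCent D N) a →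
    (∀ g, g ∉ Subgroup.centralizer (D : Set G) → a.coeff g = 0) →
      pairVal (bar D N) (quotMap N (Res M) a) η = pairVal D a ξ

omit [Fintype G] [D.Normal] [Fintype (G ⧸ N)] in
theorem map_centralizer_le :
    (Subgroup.centralizer (D : Set G)).map (QuotientGroup.mk' N) ≤
      Subgroup.centralizer (bar D N : Set (G ⧸ N)) := by
  rintro _ ⟨g, hg, rfl⟩
  refine Subgroup.mem_centralizer_iff.2 ?_
  rintro _ ⟨d, hd, rfl⟩
  rw [← map_mul, ← map_mul, Subgroup.mem_centralizer_iff.1 hg d hd]

variable (hD : IsPGroup p D) (hND : N ≤ D)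
include hM hD hND

/-- Every block of `C(D)` has an image. -/
theorem exists_image {c : Set (IrrCharacter (Subgroup.centralizer (D : Set G)))}
    (hc : IsPBlock M c) : ∃ ξ ∈ c, ∃ η, IsImage D N M ξ η := by
  have hCn : (Subgroup.centralizer (D : Set G)).Normal := inferInstance
  set C := Subgroup.centralizer (D : Set G) with hC
  set Cb := Subgroup.centralizer (bar D N : Set (G ⧸ N)) with hCb
  obtain ⟨θ', hθ'⟩ := exists_inflate_mem_of_normal_pGroup hM (N.subgroupOf C)
    ((hD.to_le hND).comap_of_injective _ C.subtype_injective) hc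
  set W : Subgroup Cb := (C.map (QuotientGroup.mk' N)).subgroupOf Cb with hW
  have hWn : W.Normal := by
    have h1 : (C.map (QuotientGroup.mk' N)).Normal :=
      Subgroup.Normal.map hCn _ (QuotientGroup.mk'_surjective N)
    exact Subgroup.normal_subgroupOf
  let ψ : C →* W := (((QuotientGroup.mk' N).comp C.subtype).codRestrict Cb
    fun x => map_centralizer_le D N ⟨x, x.2, rfl⟩).codRestrict W fun x => ⟨x, x.2, rfl⟩
  have hψ : Function.Surjective ψ := by
    rintro ⟨⟨q, hq⟩, g, hg, hgq⟩
    exact ⟨⟨g, hg⟩, Subtype.ext (Subtype.ext hgq)⟩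
  have hker : ψ.ker = N.subgroupOf C := by
    ext x
    rw [MonoidHom.mem_ker, Subgroup.mem_subgroupOf, Subtype.ext_iff, Subtype.ext_iff]
    exact QuotientGroup.eq_one_iff (x : G)
  let e : C ⧸ N.subgroupOf C ≃* W :=
    (QuotientGroup.quotientMulEquivOfEq hker.symm).trans (QuotientGroup.quotientKerEquivOfSurjective ψ hψ)
  set θ := mapIrr e.symm θ' with hθ
  obtain ⟨η, hη⟩ := exists_irr_over W θ
  refine ⟨_, hθ', η, fun a ha hsupp => ?_⟩
  have haC : InvUnder C a :=
    ha.mono fun g hg => Subgroup.mem_comap.2 (map_centralizer_le D N ⟨g, hg, rfl⟩)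
  set b := resC D a with hb
  have hbc : IsCentralElt b := isCentralElt_resC haC
  have ha' : a = inclElt C b := MonoidAlgebra.ext (Finsupp.ext fun g => by
    by_cases hg : g ∈ C
    · rw [coeff_inclElt C b ⟨g, hg⟩, hb, coeff_resC]
    · rw [coeff_inclElt_of_notMem C b hg, hsupp g hg])
  have hq : quotMap N (Res M) a = inclElt Cb (inclElt W (mapDomainRingHom (Res M) ψ b)) := by
    rw [ha']
    have h : (quotMap N (Res M)).comp (inclElt C) =
        ((inclElt Cb).comp (inclElt W)).comp (mapDomainRingHom (Res M) ψ) := by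
      refine MonoidAlgebra.ringHom_ext (fun r => ?_) (fun x => ?_) <;> simp [inclElt, ψ] <;> rfl
    exact RingHom.congr_fun h b
  have hinv : IsCentralElt (inclElt W (mapDomainRingHom (Res M) ψ b)) := by
    have h := isCentralElt_resC (P := bar D N) (a := quotMap N (Res M) a) fun u hu x => by
      obtain ⟨k, rfl⟩ := QuotientGroup.mk_surjective u
      rw [coeff_quotMap, coeff_quotMap]
      symm
      refine Fintype.sum_equiv ((MulAut.conj k).toEquiv.subtypeEquiv fun y => ?_) _ _ fun y =>
        (ha k hu y.1).symm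
      simp only [MulEquiv.toEquiv_eq_coe, MulEquiv.coe_toEquiv, MulAut.conj_apply,
        QuotientGroup.mk_mul, QuotientGroup.mk_inv]
      constructor
      · rintro rfl; rfl
      · intro h; exact mul_left_cancel (mul_right_cancel h)
    rw [resC, hq, resElt_inclElt] at h
    exact h
  show omegaBar η (resC (bar D N) (quotMap N (Res M) a)) = omegaBar _ b
  rw [resC, hq, resElt_inclElt, omegaBar_eq_omegaBar_resElt W hη hinv
    (fun g hg => coeff_inclElt_of_notMem W _ hg), resElt_inclElt, omegaBar_mapDomain ψ hψ θ hbc]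
  congr 1
  refine Subtype.ext (funext fun x => ?_)
  show (θ : W → ℂ) (ψ x) = (θ' : C ⧸ N.subgroupOf C → ℂ) x
  rw [hθ, mapIrr_apply]
  rw [show e.symm (ψ x) = (x : C ⧸ N.subgroupOf C) from
    e.injective (by rw [e.apply_symm_apply]; rfl)]

variable (hlift : ∀ g : G, ¬ p ∣ orderOf g → g ∈ upCent D N → g ∈ Subgroup.centralizer (D : Set G))
include hlift

/-- The image block is unique. -/
theorem sameBlock_of_isImage {ξ : IrrCharacter (Subgroup.centralizer (D : Set G))}
    {η η' : IrrCharacter (Subgroup.centralizer (bar D N : Set (G ⧸ N)))}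
    (h : IsImage D N M ξ η) (h' : IsImage D N M ξ η') :
    SameBlock M (η : Subgroup.centralizer (bar D N : Set (G ⧸ N)) → ℂ)
      (η' : Subgroup.centralizer (bar D N : Set (G ⧸ N)) → ℂ) := by
  set Cb := Subgroup.centralizer (bar D N : Set (G ⧸ N)) with hCb
  refine sameBlock_of_regular hM fun q hq => ?_
  rw [← Subgroup.orderOf_coe] at hq
  obtain ⟨g, hg⟩ := QuotientGroup.mk_surjective (q : G ⧸ N)
  obtain ⟨u, hu⟩ := exists_pPart hM.1 g
  obtain ⟨y, hgy, hcm, ⟨i, hi⟩, hy⟩ := hu
  have hy' : ((y : G) : G ⧸ N) = q := by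
    have hcq : Commute (u : G ⧸ N) (y : G ⧸ N) := hcm.map (QuotientGroup.mk' N)
    have hdu : orderOf (u : G ⧸ N) ∣ p ^ i := hi ▸ orderOf_map_dvd (QuotientGroup.mk' N) u
    obtain ⟨l, -, hl⟩ := (Nat.dvd_prime_pow hM.1).1 hdu
    rcases Nat.eq_zero_or_pos l with h0 | h0
    · rw [← hg, ← hgy, QuotientGroup.mk_mul,
        orderOf_eq_one_iff.1 (show orderOf (u : G ⧸ N) = 1 by rw [hl, h0, pow_zero]),
        one_mul]
    exfalso
    refine hq ?_
    rw [← hg, ← hgy, QuotientGroup.mk_mul, hcq.orderOf_mul_eq_mul_orderOf_of_coprime, hl]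
    · exact (dvd_pow_self p h0.ne').mul_right _
    · rw [hl]
      exact Nat.Coprime.coprime_dvd_right (orderOf_map_dvd (QuotientGroup.mk' N) y)
        (((Nat.Prime.coprime_iff_not_dvd hM.1).2 hy).pow_left l)
  have hyK : y ∈ upCent D N := by
    rw [Subgroup.mem_comap, QuotientGroup.mk'_apply, hy']
    exact q.2
  have hyC := hlift y hy hyK
  let a : MonoidAlgebra (Res M) G :=
    ofFun fun x => if ∃ k ∈ upCent D N, k * y * k⁻¹ = x then 1 else 0
  have hCn : (Subgroup.centralizer (D : Set G)).Normal := inferInstance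
  have ha : InvUnder (upCent D N) a := fun k hk x => by
    simp only [a, coeff_ofFun]
    refine if_congr ⟨?_, ?_⟩ rfl rfl
    · rintro ⟨l, hl, e⟩
      refine ⟨k⁻¹ * l, mul_mem (inv_mem hk) hl, ?_⟩
      rw [show k⁻¹ * l * y * (k⁻¹ * l)⁻¹ = k⁻¹ * (l * y * l⁻¹) * k by group, e]
      group
    · rintro ⟨l, hl, rfl⟩
      exact ⟨k * l, mul_mem hk hl, by group⟩
  have hsupp : ∀ x, x ∉ Subgroup.centralizer (D : Set G) → a.coeff x = 0 := fun x hx => by
    simp only [a, coeff_ofFun]
    rw [if_neg]
    rintro ⟨k, -, rfl⟩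
    exact hx (hCn.conj_mem y hyC k)
  have hclass : resC (bar D N) (quotMap N (Res M) a) = classSum (Res M) q := by
    refine MonoidAlgebra.ext (Finsupp.ext fun r => ?_)
    rw [coeff_resC, coeff_quotMap, coeff_classSum]
    by_cases hr : IsConj q r
    · rw [if_pos hr]
      obtain ⟨k', hk'⟩ := isConj_iff.1 hr
      obtain ⟨k, hk⟩ := QuotientGroup.mk_surjective (k' : G ⧸ N)
      have hkK : k ∈ upCent D N := by
        rw [Subgroup.mem_comap, QuotientGroup.mk'_apply, hk]; exact k'.2
      have hx : ((k * y * k⁻¹ : G) : G ⧸ N) = (r : G ⧸ N) := by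
        rw [QuotientGroup.mk_mul, QuotientGroup.mk_mul, QuotientGroup.mk_inv, hk, hy', ← hk']
        rfl
      rw [Finset.sum_eq_single (⟨_, hx⟩ : {x : G // (x : G ⧸ N) = (r : G ⧸ N)})]
      · simp only [a, coeff_ofFun]
        exact if_pos ⟨k, hkK, rfl⟩
      · rintro ⟨x, hxr⟩ _ hne
        simp only [a, coeff_ofFun]
        rw [if_neg]
        rintro ⟨l, hl, rfl⟩
        refine hne (Subtype.ext ?_)
        have hu : (k * y * k⁻¹)⁻¹ * (l * y * l⁻¹) ∈ N := by
          rw [← QuotientGroup.eq, hx, hxr]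
        have hord : ∀ z : G, ¬ p ∣ orderOf (z * y * z⁻¹) := fun z => by
          rwa [← MulAut.conj_apply, MulEquiv.orderOf_eq]
        have h1 := eq_one_of_regular_mul_centralizer N (hD.to_le hND) hu
          (Subgroup.centralizer_le (SetLike.coe_subset_coe.2 hND) (hCn.conj_mem y hyC k)) (hord k)
          (by rw [mul_inv_cancel_left]; exact hord l)
        exact (inv_mul_eq_one.1 h1).symm
      · simp
    · rw [if_neg hr]
      refine Finset.sum_eq_zero fun x _ => ?_
      simp only [a, coeff_ofFun]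
      rw [if_neg]
      rintro ⟨k, hk, e⟩
      refine hr (isConj_iff.2 ⟨⟨(k : G ⧸ N), hk⟩, Subtype.ext ?_⟩)
      show (k : G ⧸ N) * (q : G ⧸ N) * (k : G ⧸ N)⁻¹ = (r : G ⧸ N)
      rw [← hy', ← QuotientGroup.mk_inv, ← QuotientGroup.mk_mul, ← QuotientGroup.mk_mul, e, x.2]
  have e1 := h a ha hsupp
  have e2 := h' a ha hsupp
  rw [pairVal, hclass, omegaBar_classSum] at e1 e2
  rw [e1, e2]

/-- **The image pair.** -/
theorem exists_quotient_pair {B : Set (IrrCharacter G)}
    {c : Set (IrrCharacter (Subgroup.centralizer (D : Set G)))}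
    (hc : IsBrauerPairOf p M B D c) :
    ∃ (Bq : Set (IrrCharacter (G ⧸ N)))
      (cq : Set (IrrCharacter (Subgroup.centralizer (bar D N : Set (G ⧸ N))))),
      IsBrauerPairOf p M Bq (bar D N) cq ∧ (∀ χ ∈ Bq, inflate N χ ∈ B) ∧
        ∀ x ∈ pairStab D c, (x : G ⧸ N) ∈ pairStab (bar D N) cq := by
  have := charP_residueField hM
  obtain ⟨hDc, hB, hval⟩ := isBrauerPairOf_iff.1 hc
  obtain ⟨ξ, hξ, η, hη⟩ := exists_image hM D N hD hND hDc.2
  set cq := blockOf M (η : Subgroup.centralizer (bar D N : Set (G ⧸ N)) → ℂ)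
  have hbarp : IsPGroup p (bar D N) := hD.map _
  obtain ⟨Bq, hBq, -⟩ := existsUnique_block hM (show IsBrauerPair p M (bar D N) cq from
    ⟨hbarp, isPBlock_blockOf η⟩)
  refine ⟨Bq, cq, hBq, fun χ hχ => ?_, fun x hx => ?_⟩
  · -- the inflated block
    obtain ⟨-, hBqb, hvq⟩ := isBrauerPairOf_iff.1 hBq
    have he := isCentralElt_blockIdemBar hB
    have h1 : pairVal (bar D N) (quotMap N (Res M) (blockIdemBar M B)) η = 1 := by
      rw [hη _ (InvUnder.of_isCentralElt _ he)
        fun g hg => coeff_blockIdemBar_eq_zero_of_notMem hM D hD hB hg]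
      exact hval ξ hξ
    have hq := isCentralElt_quotMap N (R := Res M) he
    have hbq := isCentralElt_blockIdemBar hBqb
    have h2 : pairVal (bar D N) (blockIdemBar M Bq * quotMap N (Res M) (blockIdemBar M B)) η = 1 := by
      rw [pairVal_mul hM hbarp η (InvUnder.of_isCentralElt _ hbq) (InvUnder.of_isCentralElt _ hq)
        (InvUnder.of_isCentralElt _ hbq) (InvUnder.of_isCentralElt _ hq),
        hvq η (mem_blockOf_self η), h1, one_mul]
    by_contra hne
    obtain ⟨n, hn⟩ := isNilpotent_of_omegaBar_eq_zero (hbq.mul hq) fun θ => by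
      rw [omegaBar_mul θ hbq hq, omegaBar_blockIdemBar hBqb]
      split_ifs with hθ
      · rw [omegaBar_congr (IsPBlock.sameBlock hBqb hθ hχ), omegaBar_quotMap N χ he,
          omegaBar_blockIdemBar hB, if_neg hne, mul_zero]
      · rw [zero_mul]
    have hid : blockIdemBar M Bq * quotMap N (Res M) (blockIdemBar M B) = 0 := by
      refine IsIdempotentElem.eq_zero_of_isNilpotent ?_ ⟨n, hn⟩
      show _ * _ = _
      rw [mul_assoc, ← mul_assoc (quotMap N (Res M) _), (hq.commute _).eq, mul_assoc _ _ (quotMap N (Res M) _),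
        ← map_mul, blockIdemBar_mul_self hB, ← mul_assoc, blockIdemBar_mul_self hBqb]
    rw [hid, pairVal_zero] at h2
    exact zero_ne_one h2
  · -- stability
    obtain ⟨hxD, hst⟩ := hx
    have hxb : (x : G ⧸ N) ∈ Subgroup.normalizer (bar D N : Set (G ⧸ N)) := by
      have : (bar D N).Normal := Subgroup.Normal.map inferInstance _ (QuotientGroup.mk'_surjective N)
      rw [Subgroup.normalizer_eq_top]; trivial
    have hxC := normalizer_le_normalizer_centralizer _ hxb
    refine ⟨hxb, stabilizesBlock_iff.2 ⟨hxC, ?_⟩⟩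
    obtain ⟨hxc, hxe⟩ := stabilizesBlock_iff.1 hst
    set η' := mapIrr (conjEquiv _ _ (x : G ⧸ N) (mem_normalizer_conj hxC)) η with hη'
    set ξ' := mapIrr (conjEquiv _ _ x (mem_normalizer_conj hxc)) ξ with hξ'
    have hξ'c : ξ' ∈ c := by
      have h : mapIrr (conjEquiv _ _ x (mem_normalizer_conj hxc)).symm ξ' ∈ conjSelf hxc c := by
        rw [hξ', mapIrr_symm', hxe]
        exact hξ
      have h' := mem_mapBlock.1 h
      rwa [MulEquiv.symm_symm, mapIrr_symm] at h'
    have hconj : IsImage D N M ξ η' := by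
      intro a ha hsupp
      have haC : InvUnder (Subgroup.centralizer (D : Set G)) a :=
        ha.mono fun g hg => Subgroup.mem_comap.2 (map_centralizer_le D N ⟨g, hg, rfl⟩)
      have hqa : InvUnder (Subgroup.centralizer (bar D N : Set (G ⧸ N))) (quotMap N (Res M) a) :=
        fun u hu z => by
          obtain ⟨k, rfl⟩ := QuotientGroup.mk_surjective u
          rw [coeff_quotMap, coeff_quotMap]
          symm
          refine Fintype.sum_equiv ((MulAut.conj k).toEquiv.subtypeEquiv fun y => ?_) _ _ fun y =>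
            (ha k hu y.1).symm
          simp only [MulEquiv.toEquiv_eq_coe, MulEquiv.coe_toEquiv, MulAut.conj_apply,
            QuotientGroup.mk_mul, QuotientGroup.mk_inv]
          constructor
          · rintro rfl; rfl
          · intro h; exact mul_left_cancel (mul_right_cancel h)
      have hq : conjAlg (x : G ⧸ N) (quotMap N (Res M) a) = quotMap N (Res M) (conjAlg x a) := by
        refine MonoidAlgebra.ext (Finsupp.ext fun z => ?_)
        rw [coeff_conjAlg, coeff_quotMap, coeff_quotMap]
        symm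
        refine Fintype.sum_equiv ((MulAut.conj x⁻¹).toEquiv.subtypeEquiv fun y => ?_) _ _ fun y => ?_
        · simp only [MulEquiv.toEquiv_eq_coe, MulEquiv.coe_toEquiv, MulAut.conj_apply,
            QuotientGroup.mk_mul, QuotientGroup.mk_inv, inv_inv]
          constructor
          · rintro rfl; rfl
          · intro h; exact mul_left_cancel (mul_right_cancel h)
        · simp [MulAut.conj_apply]
      rw [hη', pairVal_comp _ _ hqa η, hq,
        hη _ ?_ fun g hg => ?_, ← pairVal_comp x (mem_normalizer_conj hxc) haC ξ]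
      · exact pairVal_congr a (IsPBlock.sameBlock hDc.2 hξ'c hξ)
      · intro k hk z
        rw [coeff_conjAlg, coeff_conjAlg,
          show x⁻¹ * (k * z * k⁻¹) * x = (x⁻¹ * k * x) * (x⁻¹ * z * x) * (x⁻¹ * k * x)⁻¹ by group]
        refine ha _ ?_ _
        rw [Subgroup.mem_comap] at hk ⊢
        simpa [QuotientGroup.mk'_apply, mul_assoc] using
          (Subgroup.mem_normalizer_iff.1 (inv_mem hxC) _).1 hk
      · rw [coeff_conjAlg]
        refine hsupp _ fun h => hg ?_
        simpa [mul_assoc] using (inferInstance : (Subgroup.centralizer (D : Set G)).Normal).conj_mem _ h x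
    have hs := sameBlock_of_isImage hM D N hD hND hlift hη hconj
    show mapBlock _ _ = blockOf M _
    rw [mapBlock_blockOf]
    ext θ
    set φ := conjEquiv _ _ (x : G ⧸ N) (mem_normalizer_conj hxC)
    show SameBlock M _ _ ↔ SameBlock M _ _
    have hs' := (sameBlock_mapIrr φ.symm).2 hs
    rw [hη', mapIrr_symm'] at hs'
    simp only [sameBlock_iff] at hs' ⊢
    simp only [hs']

end CfsgLib.EqualDegrees
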