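import Cfsg.Agent.Lib.Blocks.Brauer.Corner
import Cfsg.Agent.Lib.Blocks.HeightZeroCongr
import Cfsg.Agent.Lib.CharAction.Rank

/-!
# Blocks all whose characters have one degree and height zero

Such a block has one Brauer character, all its decomposition numbers are `1`, and it has as many
characters as the order of its defect group.
-/

set_option autoImplicit false

namespace CfsgLib.EqualDegrees

open Cfsg MonoidAlgebra CfsgLib.Blocks CfsgLib.Pairs CfsgLib.Star CfsgLib.IBr CfsgLib.CharAction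
open CfsgLib.Char (regCut)
open scoped Classical

variable {G : Type*} [Group G] [Fintype G] {p : ℕ} [Fact p.Prime] {M : Ideal AlgInt} [M.IsPrime]
  (hM : IsPModular p M) {B : Set (IrrCharacter G)} (hB : IsPBlock M B) {f : ℕ}
  (hf : ∀ χ ∈ B, charDegree (χ : G → ℂ) = f)
  (h0 : ∀ χ ∈ B, blockHeight p B (χ : G → ℂ) = 0)

include hM in
theorem degree_eq_sum_dec (D : Data G M) (χ : IrrCharacter G) :
    charDegree (χ : G → ℂ) = ∑ δ, D.dec χ δ * D.d δ := by
  have h := congrFun (D.pRegularPart_eq_sum hM χ) 1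
  simp only [pRegularPart, IsPRegular, orderOf_one, Nat.dvd_one, hM.1.ne_one, not_false_eq_true,
    if_true, Finset.sum_apply, Pi.smul_apply, smul_eq_mul, D.phi_one hM,
    apply_one_eq_charDegree] at h
  exact_mod_cast h

include hM hB hf in
/-- Every row of the decomposition matrix is a unit vector. -/
theorem exists_row (D : Data G M) {χ : IrrCharacter G} (hχ : χ ∈ B) :
    ∃ δ, D.block hM δ = B ∧ D.dec χ δ = 1 ∧ ∀ δ', δ' ≠ δ → D.dec χ δ' = 0 := by
  have hfp : 0 < f := hf χ hχ ▸ charDegree_pos χ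
  have hdvd : ∀ δ, D.block hM δ = B → f ∣ D.d δ := fun δ hδ =>
    dvd_degree_of_forall hM D hδ fun ξ hξ => (hf ξ hξ).symm.dvd
  have hsum := degree_eq_sum_dec hM D χ
  rw [hf χ hχ] at hsum
  obtain ⟨δ, -, hδ⟩ : ∃ δ ∈ (Finset.univ : Finset (Fin D.n)), D.dec χ δ * D.d δ ≠ 0 := by
    by_contra! h
    exact hfp.ne' (hsum.trans (Finset.sum_eq_zero h))
  have hd0 : D.dec χ δ ≠ 0 := fun h => hδ (by rw [h, zero_mul])
  have hblock : D.block hM δ = B :=
    IsPBlock.eq_of_mem (D.isPBlock_block hM δ) hB (D.mem_block_of_dec hM hd0) hχ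
  have hle : f ≤ D.d δ := Nat.le_of_dvd (Nat.pos_of_ne_zero fun h => hδ (by rw [h, mul_zero]))
    (hdvd δ hblock)
  have h1 : D.d δ ≤ D.dec χ δ * D.d δ := Nat.le_mul_of_pos_left _ (Nat.pos_of_ne_zero hd0)
  have h2 : D.dec χ δ * D.d δ ≤ f := hsum ▸ Finset.single_le_sum
    (f := fun δ' => D.dec χ δ' * D.d δ') (fun _ _ => Nat.zero_le _) (Finset.mem_univ δ)
  refine ⟨δ, hblock, ?_, fun δ' hne => ?_⟩
  · have hm : D.dec χ δ * D.d δ = 1 * D.d δ := by omega
    exact mul_right_cancel₀ (by omega) hm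
  · have h3 := Finset.add_sum_erase Finset.univ (fun δ' => D.dec χ δ' * D.d δ') (Finset.mem_univ δ)
    rw [← hsum] at h3
    have h4 : D.dec χ δ' * D.d δ' ≤ ∑ δ'' ∈ Finset.univ.erase δ, D.dec χ δ'' * D.d δ'' :=
      Finset.single_le_sum (f := fun δ'' => D.dec χ δ'' * D.d δ'') (fun _ _ => Nat.zero_le _)
        (Finset.mem_erase.2 ⟨hne, Finset.mem_univ _⟩)
    refine (mul_eq_zero.1 (show D.dec χ δ' * D.d δ' = 0 by omega)).resolve_right ?_
    exact NeZero.ne _

include hM hB hf h0 in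
/-- A block with all degrees equal and all heights zero: one Brauer character, each decomposition
number one, as many characters as the order of a defect group. -/
theorem exists_unique_brauer (D : Data G M) :
    ∃ δ₀, D.block hM δ₀ = B ∧ (∀ δ, D.block hM δ = B → δ = δ₀) ∧
      (∀ χ ∈ B, D.dec χ δ₀ = 1 ∧ regCut p (χ : G → ℂ) = D.phi p δ₀) ∧
      Nat.card B = p ^ blockDefect p B := by
  set A := (Set.toFinite B).toFinset with hA
  have hmem : ∀ {χ}, χ ∈ A ↔ χ ∈ B := fun {χ} => Set.Finite.mem_toFinset _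
  obtain ⟨χ₀, hχ₀⟩ := IsPBlock.nonempty hB
  have hrow : ∀ χ : IrrCharacter G, ∃ δ, χ ∈ B →
      D.block hM δ = B ∧ D.dec χ δ = 1 ∧ ∀ δ', δ' ≠ δ → D.dec χ δ' = 0 := fun χ => by
    by_cases hχ : χ ∈ B
    · obtain ⟨δ, hδ⟩ := exists_row hM hB hf D hχ
      exact ⟨δ, fun _ => hδ⟩
    · exact ⟨(exists_row hM hB hf D hχ₀).choose, fun h => absurd h hχ⟩
  choose r hr using hrow
  have hreg : ∀ χ ∈ B, regCut p (χ : G → ℂ) = D.phi p (r χ) := by
    intro χ hχ
    rw [← pRegularPart_eq_regCut, D.pRegularPart_eq_sum hM χ, Finset.sum_eq_single (r χ)]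
    · rw [(hr χ hχ).2.1, Nat.cast_one, one_smul]
    · intro δ _ hne; rw [(hr χ hχ).2.2 δ hne, Nat.cast_zero, zero_smul]
    · simp
  let P : Fin D.n → Fin D.n → ℂ := fun a b => classInner (D.phi p a) (D.phi p b)
  have hP : ∀ χ ∈ B, ∀ θ ∈ B, classInner (regCut p (χ : G → ℂ)) (θ : G → ℂ) = P (r χ) (r θ) := by
    intro χ hχ θ hθ
    show _ = classInner (D.phi p (r χ)) (D.phi p (r θ))
    rw [← hreg θ hθ, ← hreg χ hχ]
    unfold classInner
    congr 1
    refine Finset.sum_congr rfl fun g _ => ?_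
    by_cases hg : p ∣ orderOf g <;> simp [regCut, hg]
  -- the defining relation of the regular part
  have hrel : ∀ χ ∈ B, ∀ b, ∑ θ ∈ A.filter (fun θ => r θ = b), P (r χ) (r θ) =
      if b = r χ then 1 else 0 := by
    intro χ hχ b
    have h := regCut_eq_sum hM hB hχ
    rw [← hA, Finset.sum_congr rfl (g := fun θ => P (r χ) (r θ) • D.phi p (r θ)) fun θ hθ => by
      rw [hP χ hχ θ (hmem.1 hθ), hreg θ (hmem.1 hθ)],
      hreg χ hχ, ← Finset.sum_fiberwise A r] at h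
    have hz : ∑ δ, ((∑ θ ∈ A.filter (fun θ => r θ = δ), P (r χ) (r θ)) -
        if δ = r χ then 1 else 0) • D.phi p δ = 0 := by
      simp only [sub_smul, Finset.sum_sub_distrib, ite_smul, one_smul, zero_smul,
        Finset.sum_ite_eq', Finset.mem_univ, if_true, Finset.sum_smul, sub_eq_zero]
      refine Eq.trans (Finset.sum_congr rfl fun δ _ => Finset.sum_congr rfl fun θ hθ => ?_) h.symm
      rw [(Finset.mem_filter.1 hθ).2]
    exact sub_eq_zero.1 (Fintype.linearIndependent_iff.1 (D.linearIndependent_phi hM) _ hz b)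
  -- nonvanishing
  have hne : ∀ χ ∈ B, ∀ θ ∈ B,
      (redNum p B (χ : G → ℂ) (θ : G → ℂ) : ZMod p) ≠ 0 := by
    intro χ hχ θ hθ h
    have h1 := redNum_proportional hM hB (χ := χ) hθ hχ
    rw [h, zero_mul] at h1
    exact mul_ne_zero (redNum_self_ne_zero hM hB hχ (h0 χ hχ)) (redDeg_ne_zero hθ (h0 θ hθ)) h1.symm
  have hPne : ∀ χ ∈ B, ∀ θ ∈ B, P (r χ) (r θ) ≠ 0 := by
    intro χ hχ θ hθ h
    refine hne χ hχ θ hθ ?_
    have h1 := regNum_eq (p := p) χ θ
    rw [hP χ hχ θ hθ, h, mul_zero, eq_comm, Int.cast_eq_zero] at h1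
    rw [redNum, h1, Int.zero_ediv, Int.cast_zero]
  have hconst : ∀ χ ∈ B, r χ = r χ₀ := by
    intro χ hχ
    by_contra hne'
    have h := hrel χ hχ (r χ₀)
    rw [if_neg (Ne.symm hne'), Finset.sum_congr rfl (g := fun _ => P (r χ) (r χ₀)) fun θ hθ => by
      rw [(Finset.mem_filter.1 hθ).2], Finset.sum_const, nsmul_eq_mul] at h
    refine mul_ne_zero (Nat.cast_ne_zero.2 (Finset.card_pos.2 ⟨χ₀, ?_⟩).ne') (hPne χ hχ χ₀ hχ₀) h
    exact Finset.mem_filter.2 ⟨hmem.2 hχ₀, rfl⟩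
  refine ⟨r χ₀, (hr χ₀ hχ₀).1, fun δ hδ => ?_, fun χ hχ => ?_, ?_⟩
  · obtain ⟨χ, hχ⟩ := D.exists_dec_ne_zero hM δ
    have hχB : χ ∈ B := hδ ▸ D.mem_block_of_dec hM hχ
    by_contra hne'
    exact hχ ((hr χ hχB).2.2 δ (fun e => hne' (e.trans (hconst χ hχB))))
  · exact hconst χ hχ ▸ ⟨(hr χ hχ).2.1, hreg χ hχ⟩
  · -- counting
    have hk : (A.card : ℂ) * P (r χ₀) (r χ₀) = 1 := by
      have h := hrel χ₀ hχ₀ (r χ₀)
      rw [if_pos rfl, Finset.filter_true_of_mem fun θ hθ => hconst θ (hmem.1 hθ),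
        Finset.sum_congr rfl (g := fun _ => P (r χ₀) (r χ₀)) fun θ hθ => by
          rw [hconst θ (hmem.1 hθ)], Finset.sum_const, nsmul_eq_mul] at h
      exact h
    have he : (Nat.card G).factorization p = minDeg p B + blockDefect p B := by
      rw [blockDefect_eq_sub, Nat.add_sub_cancel' (minDeg_le_card ⟨χ₀, hχ₀⟩)]
    set z := redNum p B (χ₀ : G → ℂ) (χ₀ : G → ℂ) with hz
    have hkz : (A.card : ℤ) * z = ((p ^ blockDefect p B : ℕ) : ℤ) := by
      have h1 := regNum_eq (p := p) χ₀ χ₀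
      rw [hP χ₀ hχ₀ χ₀ hχ₀, mul_redNum χ₀ hχ₀, he, pow_add, ← hz] at h1
      push_cast at h1
      have hpe : ((p : ℂ) ^ minDeg p B) ≠ 0 :=
        pow_ne_zero _ (Nat.cast_ne_zero.2 hM.1.ne_zero)
      have h2 : (A.card : ℂ) * z = (p : ℂ) ^ blockDefect p B := by
        refine mul_left_cancel₀ hpe ?_
        linear_combination (p : ℂ) ^ minDeg p B * (p : ℂ) ^ blockDefect p B * hk -
          (A.card : ℂ) * h1
      push_cast
      exact_mod_cast h2
    have hzp : ¬ p ∣ z.natAbs := by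
      intro h
      exact hne χ₀ hχ₀ χ₀ hχ₀
        ((ZMod.intCast_zmod_eq_zero_iff_dvd _ _).2 (Int.natCast_dvd.2 h))
    have hk' := congrArg Int.natAbs hkz
    rw [Int.natAbs_mul, Int.natAbs_natCast, Int.natAbs_natCast] at hk'
    have hz1 : z.natAbs = 1 := Nat.eq_one_of_dvd_coprimes
      (Nat.Coprime.pow_left _ ((Nat.Prime.coprime_iff_not_dvd hM.1).2 hzp))
      (hk' ▸ Dvd.intro_left _ rfl) dvd_rfl
    rw [hz1, mul_one] at hk'
    rw [← hk', Nat.card_eq_card_finite_toFinset (Set.toFinite B)]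

end CfsgLib.EqualDegrees
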